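import Cfsg.Agent.Helper98.J3Mult.TwoPart

/-!
# Stem extensions of `J₃`: the lower bound, and the upper bound from the local bounds

`K` is the abstract model of `3·J₃`.  It is perfect, so `K → K ⧸ centre` is a stem extension with
kernel of order three.  For a finite stem extension of `K ⧸ centre`, the elements of the kernel
are killed by `81` (the `2`-part from the centraliser of an involution, the primes `17`, `19` from
cyclic subgroups), so a bound on the `25840`-th powers bounds the kernel.
-/

set_option autoImplicit false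
set_option linter.unusedSectionVars false

namespace Cfsg.Agent.Helper98.J3M

open Cfsg.Agent.Helper27 Cfsg.Agent.Helper98.J3 Cfsg.Agent.Helper7.ModTC
open Cfsg.Agent.Helper96.StemBound
open scoped commutatorElement

universe u

/-- a finite simple group whose order is not a prime is perfect -/
theorem commutator_eq_top_of_simple_card {G : Type*} [Group G] [Finite G] [IsSimpleGroup G]
    (h : ¬ (Nat.card G).Prime) : commutator G = ⊤ := by
  rcases (inferInstance : (commutator G).Normal).eq_bot_or_eq_top with h1 | h1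
  · exfalso
    have hcomm : ∀ x y : G, x * y = y * x := by
      intro x y
      have : ⁅x, y⁆ ∈ commutator G := by
        rw [commutator_def]
        exact Subgroup.commutator_mem_commutator (Subgroup.mem_top x) (Subgroup.mem_top y)
      rw [h1, Subgroup.mem_bot] at this
      exact commutatorElement_eq_one_iff_mul_comm.mp this
    let _ : CommGroup G := { (inferInstance : Group G) with mul_comm := hcomm }
    exact h (IsSimpleGroup.prime_card (α := G))
  · exact h1

section

variable {K : Type*} [Group K] [Finite K] {φ : K →* Matrix (Fin 9) (Fin 9) GF4}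
  (hφ : Function.Injective φ) {a b : K} (ha : φ a = toMat aCode) (hb : φ b = toMat bCode)
  (hgen : Subgroup.closure {a, b} = (⊤ : Subgroup K))

include hφ ha hb hgen

/-- every element is a product of commutators times a central element -/
theorem exists_commutator_mul_center (g : K) :
    ∃ e ∈ commutator K, ∃ c ∈ Subgroup.center K, g = e * c := by
  obtain ⟨-, -, hs, hc⟩ := main hφ ha hb hgen
  have := hs
  have hperf : commutator (K ⧸ Subgroup.center K) = ⊤ :=
    commutator_eq_top_of_simple_card (by rw [hc]; norm_num)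
  have hmap : (commutator K).map (QuotientGroup.mk' (Subgroup.center K)) = ⊤ := by
    rw [← hperf, commutator_def, commutator_def, Subgroup.map_commutator,
      ← MonoidHom.range_eq_map,
      MonoidHom.range_eq_top.mpr (QuotientGroup.mk'_surjective (Subgroup.center K))]
  have hmem : QuotientGroup.mk' (Subgroup.center K) g ∈
      (commutator K).map (QuotientGroup.mk' (Subgroup.center K)) := by
    rw [hmap]; exact Subgroup.mem_top _
  obtain ⟨e, he, heq⟩ := hmem
  refine ⟨e, he, e⁻¹ * g, ?_, by group⟩
  rw [← QuotientGroup.eq]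
  exact heq

/-- the cube of every element is a product of commutators -/
theorem pow_three_mem_commutator (g : K) : g ^ 3 ∈ commutator K := by
  obtain ⟨e, he, c, hc, rfl⟩ := exists_commutator_mul_center hφ ha hb hgen g
  have hcomm : Commute e c := Subgroup.mem_center_iff.1 hc e
  rw [hcomm.mul_pow, center_pow_three hφ ha hb hgen hc, mul_one]
  exact Subgroup.pow_mem _ he 3

/-- `3·J₃` is perfect -/
theorem commutator_K : commutator K = ⊤ := by
  have ha' : a ∈ commutator K := by
    have h1 := pow_three_mem_commutator hφ ha hb hgen a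
    have h2 : a ^ 2 = 1 := by rw [← order_a hφ ha]; exact pow_orderOf_eq_one a
    have : a = a ^ 3 * (a ^ 2)⁻¹ := by group
    rw [this, h2, inv_one, mul_one]
    exact h1
  have hb' : b ∈ commutator K := by
    have h1 := pow_three_mem_commutator hφ ha hb hgen b
    have h2 : b ^ 17 = 1 := by rw [← order_b hφ hb]; exact pow_orderOf_eq_one b
    have : b = (b ^ 3) ^ 6 * (b ^ 17)⁻¹ := by group
    rw [this, h2, inv_one, mul_one]
    exact Subgroup.pow_mem _ h1 6
  rw [eq_top_iff, ← hgen, Subgroup.closure_le]
  intro g hg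
  rcases hg with rfl | rfl
  · exact ha'
  · exact hb'

/-- `3·J₃ → J₃` is a stem extension -/
theorem stem_mk_K : Cfsg.IsStemExtension (QuotientGroup.mk' (Subgroup.center K)) :=
  isStemExtension_mk'_center (commutator_K hφ ha hb hgen)

/-- its kernel has order three -/
theorem card_ker_mk_K : Nat.card (QuotientGroup.mk' (Subgroup.center K)).ker = 3 := by
  rw [QuotientGroup.ker_mk']
  exact (main hφ ha hb hgen).2.1

/-- the order of the image of an element of prime order `p ≠ 3` -/
theorem orderOf_mk_of_prime {e : K} {p : ℕ} (hp : p.Prime) (he : orderOf e = p) (h3 : ¬ p ∣ 3) :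
    orderOf (QuotientGroup.mk e : K ⧸ Subgroup.center K) = p := by
  apply orderOf_eq_of_pow hp
  · rw [← QuotientGroup.mk_pow, ← he, pow_orderOf_eq_one]
    rfl
  · intro h
    have hc : e ∈ Subgroup.center K := (QuotientGroup.eq_one_iff e).1 h
    have h1 := center_pow_three hφ ha hb hgen hc
    have h2 : orderOf e ∣ 3 := orderOf_dvd_of_pow_eq_one h1
    rw [he] at h2
    exact h3 h2

/-- the elements of the kernel of a finite stem extension of `J₃` are killed by `81` -/
theorem pow_81 {Γ : Type u} [Group Γ] [Finite Γ] (σ : Γ →* K ⧸ Subgroup.center K)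
    (hσ : Cfsg.IsStemExtension σ) : ∀ g ∈ σ.ker, g ^ 81 = 1 := by
  obtain ⟨-, -, -, ⟨e5, he5⟩, ⟨e19, he19⟩, -⟩ := elements ha hb
  have hcard := (main hφ ha hb hgen).2.2.2
  have o17 := orderOf_mk_of_prime hφ ha hb hgen (by norm_num : Nat.Prime 17) (order_b hφ hb)
    (by norm_num)
  have o19 := orderOf_mk_of_prime hφ ha hb hgen (by norm_num : Nat.Prime 19) (order_e19 hφ he19)
    (by norm_num)
  have i17 : (Subgroup.zpowers (QuotientGroup.mk b : K ⧸ Subgroup.center K)).index =
      2954880 := by
    have h2 := Subgroup.card_mul_index (Subgroup.zpowers (QuotientGroup.mk b :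
      K ⧸ Subgroup.center K))
    rw [Nat.card_zpowers, o17, hcard] at h2
    omega
  have i19 : (Subgroup.zpowers (QuotientGroup.mk e19 : K ⧸ Subgroup.center K)).index =
      2643840 := by
    have h2 := Subgroup.card_mul_index (Subgroup.zpowers (QuotientGroup.mk e19 :
      K ⧸ Subgroup.center K))
    rw [Nat.card_zpowers, o19, hcard] at h2
    omega
  intro g hg
  have h1 := two_part hφ ha hb hgen σ hσ g hg
  have h2 := ker_pow_index_zpowers σ hσ (QuotientGroup.mk b) hg
  have h3 := ker_pow_index_zpowers σ hσ (QuotientGroup.mk e19) hg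
  rw [i17] at h2
  rw [i19] at h3
  have h4 := pow_gcd_eq_one.mpr ⟨h1, h2⟩
  have e1 : Nat.gcd 26163 2954880 = 1539 := by norm_num
  rw [e1] at h4
  have h5 := pow_gcd_eq_one.mpr ⟨h4, h3⟩
  have e2 : Nat.gcd 1539 2643840 = 81 := by norm_num
  rwa [e2] at h5

/-- a bound on the `25840`-th powers of the elements of the kernel bounds the kernel -/
theorem card_ker_le_three {Γ : Type u} [Group Γ] [Finite Γ] (σ : Γ →* K ⧸ Subgroup.center K)
    (hσ : Cfsg.IsStemExtension σ)
    (h3 : ∃ ζ : Γ, ∀ g ∈ σ.ker, g ^ 25840 = 1 ∨ g ^ 25840 = ζ ∨ g ^ 25840 = ζ ^ 2) :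
    Nat.card σ.ker ≤ 3 := by
  obtain ⟨ζ, hζ⟩ := h3
  have h81 := pow_81 hφ ha hb hgen σ hσ
  have hsub : (σ.ker : Set Γ) ⊆ {1, ζ, ζ ^ 2} := by
    intro g hg
    have hg' : g ∈ σ.ker := hg
    have e : g ^ 25840 = g := by
      have : g ^ 25840 = (g ^ 81) ^ 319 * g := by rw [← pow_mul, ← pow_succ]
      rw [this, h81 g hg', one_pow, one_mul]
    have := hζ g hg'
    rw [e] at this
    simp only [Set.mem_insert_iff, Set.mem_singleton_iff]
    exact this
  have hfin : ({1, ζ, ζ ^ 2} : Set Γ).Finite := Set.toFinite _
  have hle : ({1, ζ, ζ ^ 2} : Set Γ).ncard ≤ 3 := by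
    have h1 := Set.ncard_insert_le (1 : Γ) {ζ, ζ ^ 2}
    have h2 := Set.ncard_insert_le ζ {ζ ^ 2}
    rw [Set.ncard_singleton] at h2
    omega
  calc Nat.card σ.ker = (σ.ker : Set Γ).ncard := Nat.card_coe_set_eq _
    _ ≤ ({1, ζ, ζ ^ 2} : Set Γ).ncard := Set.ncard_le_ncard hsub hfin
    _ ≤ 3 := hle

end

end Cfsg.Agent.Helper98.J3M
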