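import Cfsg.Agent.Helper98.J3Mult.Glue
import Cfsg.Agent.Helper98.J3Mult.C2Data
import Cfsg.Agent.Helper7.J2Mult.p2Data
import Cfsg.Agent.Helper7.ModTC.Lin

/-!
# Kernel checks for the centraliser of an involution of `J₃` with the labelled coset table `p2C`
-/

set_option autoImplicit false
set_option maxRecDepth 10000000
set_option maxHeartbeats 0

namespace Cfsg.Agent.Helper98.J3M

open Cfsg.Agent.Helper27 Cfsg.Agent.Helper98.J3 Cfsg.Agent.Helper7.ModTC
open Cfsg.Agent.Helper7.J2Mult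

theorem c2_inv : invChk c2Li = true := by decide +kernel

theorem c2_rel : relChk c2Li 6 3 p2Rels p2Zws = true := by decide +kernel

theorem c2_sorted : sortedOK c2T 1920 11 c2Sig = true := by decide +kernel

theorem c2_slp : slpOK c2Slp c2SlpProg 2 = true := by decide +kernel

theorem c2_slp_facts : c2Slp.getD 0 0 = aCode ∧ c2Slp.getD 1 0 = bCode ∧ c2Slp.length = 112 ∧
    (∀ i < 3, c2Ix.getD i 0 < 112 ∧ c2Slp.getD (c2Ix.getD i 0) 0 = c2Li.getD (2 * i) idCode) := by
  decide +kernel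

/-- the word `(x 0 * x 1 * x 2) ^ 5` of the central involution -/
def c2Wz : List ℕ := [0, 2, 4, 0, 2, 4, 0, 2, 4, 0, 2, 4, 0, 2, 4]

/-- the central involution is the involution `a`, the square of `x 0` is trivial and `x 0` is
not -/
theorem c2_facts : wordCode (letC c2Li c2Wz) = aCode ∧ c2Li.getD 0 idCode < 2 ^ 162 ∧
    Nat.beq (normC (c2Li.getD 0 idCode)) (normC idCode) = false ∧ p2Rels.getD 0 [] = [0, 0] := by
  decide +kernel

def c2Pairs : List (ℕ × ℕ) := [(5, 90), (0, 383), (0, 1720), (1, 102), (1, 169), (2, 712)]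

def c2U : List (List ℤ) := [[0, 0, 0, 0, 0, 0], [0, 0, -1, 0, 0, -1], [0, -1, 0, 0, 1, -1],
  [1, 0, 0, 0, 0, 0], [0, 0, -1, 0, 0, 0], [0, 0, 0, -1, 0, 0]]

def c2U0 : List ℤ := [0, 1, 1, 0, 0, 1]

def c2Eps : List ℤ := [1, 1, 1, 0, 1, 1]

theorem c2_lin0 : lincomb c2U0 (relList p2C 11521 c2Pairs) = vsmul 2 (padUnit 6 0) := by
  decide +kernel

theorem c2_lin : ∀ j < 6, lincomb (c2U.getD j []) (relList p2C 11521 c2Pairs) =
    vadd (padUnit 6 j) (vsmul (-(c2Eps.getD j 0)) (padUnit 6 0)) := by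
  decide +kernel

/-- the walk along the square of the word of the central involution -/
theorem c2_walk : p2C.walk 1000000 0 (c2Wz ++ c2Wz) = some (0, [-5, 6, 9, 2, -2, 8]) := by
  decide +kernel

theorem c2_linz : lincomb [2, -1, 4, -8, 9, -7] (relList p2C 11521 c2Pairs) =
    [-5, 6, 9, 2, -2, 8] := by
  decide +kernel

end Cfsg.Agent.Helper98.J3M
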