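import Cfsg.Agent.Helper98.J3Mult.Bounds
import Cfsg.Agent.Helper66.SchurMult

/-!
# The Schur multiplier of `J₃` from the bound on the `3`-part
-/

set_option autoImplicit false
set_option linter.unusedSectionVars false

namespace Cfsg.Agent.Helper98.J3M

open Cfsg Cfsg.Spor Cfsg.Agent.Helper27 Cfsg.Agent.Helper98.J3 Cfsg.Agent.Helper66

universe u

/-- the bound on the `25840`-th powers of the elements of the kernels of the finite stem
extensions of a group -/
def ThreePart (G : Type u) [Group G] : Prop :=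
  ∀ (Γ : Type u) [Group Γ] [Finite Γ] (σ : Γ →* G), Cfsg.IsStemExtension σ →
    ∃ ζ : Γ, ∀ g ∈ σ.ker, g ^ 25840 = 1 ∨ g ^ 25840 = ζ ∨ g ^ 25840 = ζ ^ 2

section

variable {K : Type u} [Group K] [Finite K] {φ : K →* Matrix (Fin 9) (Fin 9) GF4}
  (hφ : Function.Injective φ) {a b : K} (ha : φ a = toMat aCode) (hb : φ b = toMat bCode)
  (hgen : Subgroup.closure {a, b} = (⊤ : Subgroup K))

include hφ ha hb hgen

/-- the Schur multiplier of `J₃`, in the abstract model -/
theorem mult_K (h3 : ThreePart (K ⧸ Subgroup.center K)) :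
    Cfsg.HasCyclicSchurMultiplier (K ⧸ Subgroup.center K) 3 := by
  obtain ⟨⟨Γ, _, _, σ, hσ, ⟨k⟩⟩, _⟩ := hasSchurMultiplier_schurT (K ⧸ Subgroup.center K)
  have h1 : Nat.card σ.ker ≤ 3 := card_ker_le_three hφ ha hb hgen σ hσ (h3 Γ σ hσ)
  rw [Nat.card_congr k.toEquiv] at h1
  obtain ⟨θ, hθ⟩ := exists_surjective_schurT_ker _ (stem_mk_K hφ ha hb hgen)
  have h2 : Nat.card (QuotientGroup.mk' (Subgroup.center K)).ker ≤
      Nat.card (schurT (K ⧸ Subgroup.center K)) := by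
    have : Finite (schurT (K ⧸ Subgroup.center K)) := Finite.of_equiv _ k.toEquiv
    exact Nat.card_le_card_of_surjective θ hθ
  rw [card_ker_mk_K hφ ha hb hgen] at h2
  have hc : Nat.card (schurT (K ⧸ Subgroup.center K)) = 3 := le_antisymm h1 h2
  have : Fact (Nat.Prime 3) := ⟨Nat.prime_three⟩
  have hcyc : IsCyclic (schurT (K ⧸ Subgroup.center K)) := isCyclic_of_prime_card hc
  have e := zmodCyclicMulEquiv hcyc
  rw [hc] at e
  exact (hasSchurMultiplier_iff (K ⧸ Subgroup.center K) (Multiplicative (ZMod 3))).mpr ⟨e⟩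

end

/-- the Schur multiplier of `J₃ F ω` -/
theorem mult_J3 {F : Type u} [Field F] (ω : F) (σ₀ : F ≃+* GF4) (hσ₀ : σ₀ ω = GF4.w)
    (h3 : ∀ (K : Type u) [Group K] [Finite K] (φ : K →* Matrix (Fin 9) (Fin 9) GF4)
      (_ : Function.Injective φ) (a b : K) (_ : φ a = toMat aCode) (_ : φ b = toMat bCode)
      (_ : Subgroup.closure {a, b} = (⊤ : Subgroup K)), ThreePart (K ⧸ Subgroup.center K)) :
    Cfsg.HasCyclicSchurMultiplier (J3 F ω) 3 := by
  obtain ⟨a0, b0, ea, eb, heq⟩ := threeJ3_eq ω σ₀ hσ₀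
  have key : ∀ U : Subgroup (GL F9 F), U = Subgroup.closure {a0, b0} →
      Cfsg.HasCyclicSchurMultiplier (↥U ⧸ Subgroup.center ↥U) 3 := by
    rintro _ rfl
    obtain ⟨_, φ, hφ, a, b, ha, hb, hgen⟩ := closure_setup σ₀ a0 b0 ea eb
    exact mult_K hφ ha hb hgen (h3 _ φ hφ a b ha hb hgen)
  exact key _ heq

end Cfsg.Agent.Helper98.J3M
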