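import Cfsg.Agent.Helper98.J3Out
import Cfsg.Agent.Helper98.J3Mult.StemX

/-!
# Labelled coset tables over the matrix model of `J₃`

`K` is the abstract model of `3·J₃` (a finite group with an injective homomorphism `φ` to `9 × 9`
matrices over `GF4`, generated by two elements with the codes `aCode`, `bCode`), and
`G = K ⧸ centre`.  Elements of `G` are given by matrix codes, equality in `G` is equality of
matrices up to the scalars `1, ω, ω²`; the hypotheses of `stem_main_x` on the side of `G` become
Boolean checks on codes.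
-/

set_option autoImplicit false
set_option linter.unusedSectionVars false

namespace Cfsg.Agent.Helper98.J3M

open Cfsg.Agent.Helper27 Cfsg.Agent.Helper98.J3 Cfsg.Agent.Helper7.ModTC

universe u

/-! ### codes -/

theorem toMat_prodCode (A B : ℕ) : toMat (prodCode A B) = toMat A * toMat B := by
  ext i j
  rw [toMat_mul_apply, ← rowOf_prodCode A B i.isLt]
  rfl

/-- the code of the product of the matrices of a list of codes -/
def wordCode : List ℕ → ℕ
  | [] => idCode
  | c :: w => withNat (wordCode w) fun d => prodCode c d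

theorem wordCode_cons (c : ℕ) (w : List ℕ) : wordCode (c :: w) = prodCode c (wordCode w) := rfl

theorem wordCode_lt (w : List ℕ) : wordCode w < 2 ^ 162 := by
  cases w with
  | nil => exact scal_lt.1
  | cons c w => rw [wordCode_cons]; exact prodCode_lt _ _

theorem wordCode_append (u w : List ℕ) :
    toMat (wordCode (u ++ w)) = toMat (wordCode u) * toMat (wordCode w) := by
  induction u with
  | nil =>
    show toMat (wordCode w) = toMat idCode * toMat (wordCode w)
    rw [toMat_idCode, one_mul]
  | cons c u ih =>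
    rw [List.cons_append, wordCode_cons, wordCode_cons, toMat_prodCode, toMat_prodCode, ih,
      mul_assoc]

/-- `ω` times a matrix, on codes -/
def wM (c : ℕ) : ℕ := prodCode wICode c

theorem toMat_wICode : toMat wICode = GF4.w • (1 : Matrix (Fin 9) (Fin 9) GF4) := by
  have h : ∀ i j : Fin 9, entRow (rowOf wICode i.val) j.val = if i = j then GF4.w else 0 := by
    decide +kernel
  ext i j
  rw [toMat, h, Matrix.smul_apply, Matrix.one_apply]
  split_ifs <;> simp

theorem toMat_w2ICode : toMat w2ICode = (GF4.w * GF4.w) • (1 : Matrix (Fin 9) (Fin 9) GF4) := by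
  rw [← eqMul_spec ordW_ok.1, toMat_wICode, Matrix.smul_mul, Matrix.mul_smul, mul_one, smul_smul]

theorem toMat_wM (c : ℕ) : toMat (wM c) = GF4.w • toMat c := by
  rw [wM, toMat_prodCode, toMat_wICode, Matrix.smul_mul, one_mul]

theorem wM_lt (c : ℕ) : wM c < 2 ^ 162 := prodCode_lt _ _

theorem w_cube : GF4.w * GF4.w * GF4.w = 1 := by decide

theorem wM_wM_wM {c : ℕ} (hc : c < 2 ^ 162) : wM (wM (wM c)) = c := by
  apply toMat_inj (wM_lt _) hc
  rw [toMat_wM, toMat_wM, toMat_wM, smul_smul, smul_smul, w_cube, one_smul]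

/-- the least of the codes of the three scalar multiples -/
def normC (c : ℕ) : ℕ :=
  withNat (wM c) fun c1 => withNat (wM c1) fun c2 => min c (min c1 c2)

theorem normC_eq (c : ℕ) : normC c = min c (min (wM c) (wM (wM c))) := rfl

theorem normC_wM {c : ℕ} (hc : c < 2 ^ 162) : normC (wM c) = normC c := by
  rw [normC_eq, normC_eq, wM_wM_wM hc, min_comm c, min_assoc]

theorem normC_of_smul {c d : ℕ} (hc : c < 2 ^ 162) (hd : d < 2 ^ 162)
    (h : toMat d = toMat c ∨ toMat d = GF4.w • toMat c ∨ toMat d = (GF4.w * GF4.w) • toMat c) :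
    normC d = normC c := by
  rcases h with h | h | h
  · rw [toMat_inj hd hc h]
  · have : d = wM c := toMat_inj hd (wM_lt _) (by rw [h, toMat_wM])
    rw [this, normC_wM hc]
  · have : d = wM (wM c) := toMat_inj hd (wM_lt _) (by rw [h, toMat_wM, toMat_wM, smul_smul])
    rw [this, normC_wM (wM_lt _), normC_wM hc]

/-- the code is one of the three scalar codes -/
def scalB (c : ℕ) : Bool := Nat.beq c idCode || Nat.beq c wICode || Nat.beq c w2ICode

theorem scalB_spec {c : ℕ} (h : scalB c = true) : c = idCode ∨ c = wICode ∨ c = w2ICode := by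
  simp only [scalB, Bool.or_eq_true] at h
  rcases h with (h | h) | h
  · left; exact Nat.eq_of_beq_eq_true h
  · right; left; exact Nat.eq_of_beq_eq_true h
  · right; right; exact Nat.eq_of_beq_eq_true h

/-! ### elements given by codes -/

section Elements

variable {K : Type*} [Group K] (φ : K →* Matrix (Fin 9) (Fin 9) GF4)

/-- some element of `K` has the matrix of the code -/
def RepK (c : ℕ) : Prop := ∃ g : K, φ g = toMat c

open Classical in
/-- the element of `K` with the matrix of the code, if there is one -/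
noncomputable def elK (c : ℕ) : K := if h : RepK φ c then h.choose else 1

/-- its image in the quotient by the centre -/
noncomputable def elG (c : ℕ) : K ⧸ Subgroup.center K := QuotientGroup.mk (elK φ c)

variable {φ}

theorem phi_elK {c : ℕ} (h : RepK φ c) : φ (elK φ c) = toMat c := by
  unfold elK
  rw [dif_pos h]
  exact h.choose_spec

theorem elK_eq (hφ : Function.Injective φ) {g : K} {c : ℕ} (h : φ g = toMat c) : elK φ c = g :=
  hφ ((phi_elK ⟨g, h⟩).trans h.symm)

theorem repK_id : RepK φ idCode := ⟨1, by rw [map_one, toMat_idCode]⟩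

theorem elG_id (hφ : Function.Injective φ) : elG φ idCode = 1 := by
  unfold elG
  rw [elK_eq hφ (g := 1) (by rw [map_one, toMat_idCode])]
  rfl

theorem repK_mul {c d : ℕ} (hc : RepK φ c) (hd : RepK φ d) : RepK φ (prodCode c d) := by
  obtain ⟨g, hg⟩ := hc
  obtain ⟨g', hg'⟩ := hd
  exact ⟨g * g', by rw [map_mul, hg, hg', toMat_prodCode]⟩

theorem elG_mul (hφ : Function.Injective φ) {c d : ℕ} (hc : RepK φ c) (hd : RepK φ d) :
    elG φ c * elG φ d = elG φ (prodCode c d) := by
  unfold elG
  rw [← QuotientGroup.mk_mul]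
  congr 1
  symm
  apply elK_eq hφ
  rw [map_mul, phi_elK hc, phi_elK hd, toMat_prodCode]

theorem repK_inv {c c' : ℕ} (hc : RepK φ c) (h : toMat c * toMat c' = 1) :
    ∃ g : K, φ g = toMat c ∧ φ g⁻¹ = toMat c' := by
  obtain ⟨g, hg⟩ := hc
  refine ⟨g, hg, ?_⟩
  have h1 : φ g⁻¹ * φ g = 1 := by rw [← map_mul, inv_mul_cancel, map_one]
  calc φ g⁻¹ = φ g⁻¹ * (toMat c * toMat c') := by rw [h, mul_one]
    _ = (φ g⁻¹ * φ g) * toMat c' := by rw [hg, mul_assoc]
    _ = toMat c' := by rw [h1, one_mul]

theorem elG_inv (hφ : Function.Injective φ) {c c' : ℕ} (hc : RepK φ c)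
    (h : toMat c * toMat c' = 1) : RepK φ c' ∧ (elG φ c)⁻¹ = elG φ c' := by
  obtain ⟨g, hg, hg'⟩ := repK_inv hc h
  refine ⟨⟨g⁻¹, hg'⟩, ?_⟩
  unfold elG
  rw [elK_eq hφ hg, elK_eq hφ hg']
  rfl

end Elements

/-! ### the quotient by the centre -/

section Quot

variable {K : Type*} [Group K] [Finite K] {φ : K →* Matrix (Fin 9) (Fin 9) GF4}
  (hφ : Function.Injective φ) {a b : K} (ha : φ a = toMat aCode) (hb : φ b = toMat bCode)
  (hgen : Subgroup.closure {a, b} = (⊤ : Subgroup K))

include hφ ha hb hgen

theorem elG_eq_one {c : ℕ} (hc : RepK φ c) (hs : scalB c = true) : elG φ c = 1 := by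
  unfold elG
  rw [QuotientGroup.eq_one_iff]
  apply center_of_scalar hφ ha hb hgen
  rw [phi_elK hc]
  rcases scalB_spec hs with h | h | h
  · left; rw [h]
  · right; left; rw [h]
  · right; right; rw [h]

theorem normC_eq_of_elG_eq {c d : ℕ} (hc : RepK φ c) (hd : RepK φ d) (hc' : c < 2 ^ 162)
    (hd' : d < 2 ^ 162) (e : elG φ c = elG φ d) : normC c = normC d := by
  unfold elG at e
  rw [QuotientGroup.eq] at e
  have h1 := scalar_of_center hφ ha hb hgen e
  have h2 : φ (elK φ d) = φ (elK φ c) * φ ((elK φ c)⁻¹ * elK φ d) := by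
    rw [← map_mul, mul_inv_cancel_left]
  rw [phi_elK hc, phi_elK hd] at h2
  symm
  apply normC_of_smul hc' hd'
  rcases h1 with h | h | h
  · left; rw [h2, h, toMat_idCode, mul_one]
  · right; left; rw [h2, h, toMat_wICode, Matrix.mul_smul, mul_one]
  · right; right; rw [h2, h, toMat_w2ICode, Matrix.mul_smul, mul_one]

end Quot

/-! ### words -/

/-- a word in letters as a list of codes -/
def letC (li : List ℕ) (w : List ℕ) : List ℕ := w.map fun l => li.getD l idCode

/-- the odd entries are the codes of the inverses of the even ones -/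
def invChk (li : List ℕ) : Bool :=
  (List.range (li.length / 2 + 1)).all fun i =>
    eqMul (li.getD (2 * i) idCode) (li.getD (2 * i + 1) idCode) idCode

theorem idCode_sq : toMat idCode * toMat idCode = 1 := by rw [toMat_idCode, one_mul]

theorem invChk_spec {li : List ℕ} (h : invChk li = true) (i : ℕ) :
    toMat (li.getD (2 * i) idCode) * toMat (li.getD (2 * i + 1) idCode) = 1 := by
  rcases Nat.lt_or_ge i (li.length / 2 + 1) with hi | hi
  · simp only [invChk, List.all_eq_true, List.mem_range] at h
    rw [eqMul_spec (h i hi), toMat_idCode]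
  · rw [List.getD_eq_default _ _ (by omega), List.getD_eq_default _ _ (by omega), idCode_sq]

section Words

variable {K : Type*} [Group K] (φ : K →* Matrix (Fin 9) (Fin 9) GF4)

/-- the generators given by the list of the codes of `x 0, (x 0)⁻¹, x 1, (x 1)⁻¹, …` -/
noncomputable def xOf (li : List ℕ) (i : ℕ) : K ⧸ Subgroup.center K :=
  elG φ (li.getD (2 * i) idCode)

variable {φ} (hφ : Function.Injective φ) {li : List ℕ}
  (hrep : ∀ i, RepK φ (li.getD (2 * i) idCode)) (hinv : invChk li = true)

include hφ hrep hinv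

theorem evL_xOf (l : ℕ) :
    RepK φ (li.getD l idCode) ∧ evL (xOf φ li) l = elG φ (li.getD l idCode) := by
  unfold evL xOf
  rcases Nat.mod_two_eq_zero_or_one l with hl | hl
  · have h2 : 2 * (l / 2) = l := by omega
    rw [if_pos hl, h2]
    have := hrep (l / 2)
    rw [h2] at this
    exact ⟨this, rfl⟩
  · have h2 : 2 * (l / 2) + 1 = l := by omega
    rw [if_neg (by omega)]
    have := elG_inv hφ (hrep (l / 2)) (invChk_spec hinv (l / 2))
    rw [h2] at this
    exact this

theorem ev_xOf (w : List ℕ) :
    RepK φ (wordCode (letC li w)) ∧ ev (xOf φ li) w = elG φ (wordCode (letC li w)) := by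
  induction w with
  | nil => exact ⟨repK_id, (elG_id hφ).symm⟩
  | cons l w ih =>
    obtain ⟨h1, h2⟩ := evL_xOf hφ hrep hinv l
    show RepK φ (wordCode (li.getD l idCode :: letC li w)) ∧
      ev (xOf φ li) (l :: w) = elG φ (wordCode (li.getD l idCode :: letC li w))
    rw [wordCode_cons, ev_cons, h2, ih.2, elG_mul hφ h1 ih.1]
    exact ⟨repK_mul h1 ih.1, rfl⟩

end Words

/-! ### the checks -/

/-- the check of the relators and of the words with zero exponent sums -/
def relChk (li : List ℕ) (m k : ℕ) (relsL zwsL : List (List ℕ)) : Bool :=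
  ((List.range m).all fun b => scalB (wordCode (letC li (relsL.getD b [])))) &&
  ((List.range k).all fun i => scalB (wordCode (letC li (zwsL.getD i [] ++ [2 * i + 1]))) &&
    Cert.isZero (esum (zwsL.getD i [])))

/-- the check of the code of a node -/
def nodeChk (li : List ℕ) (C : Cert) (T : ℕ) (c : ℕ) : Bool :=
  Nat.beq (normC (wordCode (letC li (C.tw c)))) (fld T 162 c)

/-- the check of the codes of a range of nodes -/
def nodeRange (li : List ℕ) (C : Cert) (T : ℕ) (lo len : ℕ) : Bool :=
  (List.range len).all fun i => nodeChk li C T (lo + i)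

theorem nodeRange_spec {li : List ℕ} {C : Cert} {T : ℕ} {lo len : ℕ}
    (h : nodeRange li C T lo len = true) {c : ℕ} (h1 : lo ≤ c) (h2 : c < lo + len) :
    nodeChk li C T c = true := by
  simp only [nodeRange, List.all_eq_true, List.mem_range] at h
  have := h (c - lo) (by omega)
  rwa [show lo + (c - lo) = c by omega] at this

/-! ### the main theorem -/

section Main

variable {K : Type*} [Group K] [Finite K] {φ : K →* Matrix (Fin 9) (Fin 9) GF4}
  (hφ : Function.Injective φ) {a b : K} (ha : φ a = toMat aCode) (hb : φ b = toMat bCode)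
  (hgen : Subgroup.closure {a, b} = (⊤ : Subgroup K))

include hφ ha hb hgen

theorem glue_main_x {Γ : Type u} [Group Γ] [Finite Γ] (σ : Γ →* K ⧸ Subgroup.center K)
    (hσ : Cfsg.IsStemExtension σ) (C : Cert) (k m : ℕ) (relsL zwsL : List (List ℕ))
    (li : List ℕ) (T w sig : ℕ)
    (hnl : C.nl = 2 * k)
    (hbase : C.base = mkBase m k (fun b => relsL.getD b []) (fun i => zwsL.getD i []))
    (hk : li.length = 2 * k) (hzl : zwsL.length = k)
    (hrep : ∀ i < k, RepK φ (li.getD (2 * i) idCode))
    (hinv : invChk li = true) (hrel : relChk li m k relsL zwsL = true)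
    (hnode : ∀ c < C.N, nodeChk li C T c = true)
    (hsorted : sortedOK T C.N w sig = true)
    (htw0 : C.tw 0 = []) (hN : 0 < C.N)
    (hchk : ∀ c l, c < C.N → l < C.nl → C.chkEdge c l = true) :
    Nat.card (Subgroup.closure (Set.range (xOf φ li))) = C.N ∧
    ∃ X z : ℕ → Γ, (∀ i, σ (X i) = xOf φ li i) ∧ (∀ j, z j ∈ Subgroup.center Γ) ∧
      (∀ j, z j ∈ σ.ker) ∧ (∀ j, m ≤ j → z j = 1) ∧
      (∀ j < m, ev X (relsL.getD j []) = z j) ∧
      C.BaseOK X z ∧ (∀ c l, c < C.N → l < C.nl → C.Valid X z c l) ∧
      ∀ g ∈ σ.ker, ∃ v : List ℤ,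
        g ^ (Subgroup.closure (Set.range (xOf φ li))).index = zpv z 0 v := by
  have hrep' : ∀ i, RepK φ (li.getD (2 * i) idCode) := by
    intro i
    rcases Nat.lt_or_ge i k with hi | hi
    · exact hrep i hi
    · rw [List.getD_eq_default _ _ (by omega)]
      exact repK_id
  have hev := ev_xOf hφ hrep' hinv
  simp only [relChk, Bool.and_eq_true, List.all_eq_true, List.mem_range] at hrel
  obtain ⟨hr1, hr2⟩ := hrel
  have hinjT : ∀ i j, i < C.N → j < C.N → fld T 162 i = fld T 162 j → i = j := by
    intro i j hi hj e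
    exact inj_of_sorted (fun i => fld T 162 i) (fun k => fld sig w k) C.N
      (fun k hk => sortedOK_spec hsorted k hk) hi hj e
  refine stem_main_x σ hσ C k m (fun b => relsL.getD b []) (fun i => zwsL.getD i [])
    (xOf φ li) hnl hbase ?_ ?_ ?_ ?_ ?_ ?_ htw0 hN hchk
  · intro i hi
    unfold xOf
    rw [List.getD_eq_default _ _ (by omega)]
    exact elG_id hφ
  · intro i hi
    exact List.getD_eq_default _ _ (by omega)
  · intro b hb'
    rw [(hev _).2]
    exact elG_eq_one hφ ha hb hgen (hev _).1 (hr1 b hb')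
  · intro i hi
    have h1 := (hev (zwsL.getD i [] ++ [2 * i + 1])).2
    rw [elG_eq_one hφ ha hb hgen (hev _).1 (hr2 i hi).1, ev_append, ev_singleton] at h1
    have h2 : evL (xOf φ li) (2 * i + 1) = (xOf φ li i)⁻¹ := by
      unfold evL
      rw [if_neg (by omega)]
      congr 2
      omega
    rw [h2] at h1
    exact mul_inv_eq_one.1 h1
  · intro i hi
    exact (hr2 i hi).2
  · intro c hc c' hc' e
    rw [(hev _).2, (hev _).2] at e
    have h1 := normC_eq_of_elG_eq hφ ha hb hgen (hev _).1 (hev _).1 (wordCode_lt _)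
      (wordCode_lt _) e
    have h2 := Nat.eq_of_beq_eq_true (hnode c hc)
    have h3 := Nat.eq_of_beq_eq_true (hnode c' hc')
    exact hinjT c c' hc hc' (by rw [← h2, ← h3, h1])

end Main

end Cfsg.Agent.Helper98.J3M
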