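import Cfsg.Agent.Helper98.J3Mult.Glue

/-!
# The two facts on the side of `J₃` used with labelled coset tables, stated separately
-/

set_option autoImplicit false
set_option linter.unusedSectionVars false

namespace Cfsg.Agent.Helper98.J3M

open Cfsg.Agent.Helper27 Cfsg.Agent.Helper98.J3 Cfsg.Agent.Helper7.ModTC

section

variable {K : Type*} [Group K] [Finite K] {φ : K →* Matrix (Fin 9) (Fin 9) GF4}
  (hφ : Function.Injective φ) {a b : K} (ha : φ a = toMat aCode) (hb : φ b = toMat bCode)
  (hgen : Subgroup.closure {a, b} = (⊤ : Subgroup K)) {li : List ℕ}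
  (hrep : ∀ i, RepK φ (li.getD (2 * i) idCode)) (hinv : invChk li = true)

include hφ ha hb hgen hrep hinv

/-- a word whose matrix is a scalar has trivial value -/
theorem ev_eq_one_of_scalB (w : List ℕ) (h : scalB (wordCode (letC li w)) = true) :
    ev (xOf φ li) w = 1 := by
  obtain ⟨h1, h2⟩ := ev_xOf hφ hrep hinv w
  rw [h2]
  exact elG_eq_one hφ ha hb hgen h1 h

/-- the values of the words of the nodes are pairwise distinct -/
theorem nodes_inj {C : Cert} {T w sig : ℕ} (hnode : ∀ c < C.N, nodeChk li C T c = true)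
    (hsorted : sortedOK T C.N w sig = true) :
    ∀ c < C.N, ∀ c' < C.N, ev (xOf φ li) (C.tw c) = ev (xOf φ li) (C.tw c') → c = c' := by
  have hev := ev_xOf hφ hrep hinv
  have hinjT : ∀ i j, i < C.N → j < C.N → fld T 162 i = fld T 162 j → i = j := by
    intro i j hi hj e
    exact inj_of_sorted (fun i => fld T 162 i) (fun k => fld sig w k) C.N
      (fun k hk => sortedOK_spec hsorted k hk) hi hj e
  intro c hc c' hc' e
  rw [(hev _).2, (hev _).2] at e
  have h1 := normC_eq_of_elG_eq hφ ha hb hgen (hev _).1 (hev _).1 (wordCode_lt _)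
    (wordCode_lt _) e
  have h2 := Nat.eq_of_beq_eq_true (hnode c hc)
  have h3 := Nat.eq_of_beq_eq_true (hnode c' hc')
  exact hinjT c c' hc hc' (by rw [← h2, ← h3, h1])

end

end Cfsg.Agent.Helper98.J3M
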