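import Cfsg.Agent.Helper98.J3Mult.Glue
import Cfsg.Agent.Helper98.J3Mult.P3Data

set_option autoImplicit false
set_option maxRecDepth 10000000
set_option maxHeartbeats 0

namespace Cfsg.Agent.Helper98.J3M

theorem p3_node4 : nodeRange p3Li p3C p3T 972 243 = true := by decide +kernel

end Cfsg.Agent.Helper98.J3M
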