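import Cfsg.Agent.Helper7.ModTC.StemMain
import Cfsg.Agent.Helper7.ModTC.Lin

/-!
# Labelled coset tables with given lifts

The core of `ModTC.stem_main` for lifts `X i` of the generators which are given, together with
central elements `z j` of the kernel such that the base words of the certificate have their values.
Also the analogue of `ModTC.two_case` for the prime three.
-/

set_option autoImplicit false

namespace Cfsg.Agent.Helper98.J3M

open Cfsg.Agent.Helper7.ModTC

open scoped commutatorElement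

universe u v

variable {Γ : Type u} {G : Type v} [Group Γ] [Group G]

theorem stem_core [Finite Γ] (σ : Γ →* G) (hσ : Cfsg.IsStemExtension σ)
    (C : Cert) (k : ℕ) (x : ℕ → G) (X z : ℕ → Γ)
    (hnl : C.nl = 2 * k) (hσX : ∀ i, σ (X i) = x i) (hXk : ∀ i, k ≤ i → X i = 1)
    (hzker : ∀ j, z j ∈ σ.ker) (hb : C.BaseOK X z)
    (hG4 : ∀ c < C.N, ∀ c' < C.N, ev x (C.tw c) = ev x (C.tw c') → c = c')
    (htw0 : C.tw 0 = []) (hN : 0 < C.N)
    (hchk : ∀ c l, c < C.N → l < C.nl → C.chkEdge c l = true) :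
    Nat.card (Subgroup.closure (Set.range x)) = C.N ∧
      (∀ c l, c < C.N → l < C.nl → C.Valid X z c l) ∧
      ∀ g ∈ σ.ker, ∃ w : List ℤ,
        g ^ (Subgroup.closure (Set.range x)).index = zpv z 0 w := by
  classical
  have hker : ∀ g, g ∈ σ.ker → g ∈ Subgroup.center Γ := fun g hg => hσ.2.1 hg
  have hσX' : (fun i => σ (X i)) = x := funext hσX
  have hz : ∀ j, z j ∈ Subgroup.center Γ := fun j => hker _ (hzker j)
  have hv : ∀ c l, c < C.N → l < C.nl → C.Valid X z c l :=
    fun c l hc hl => C.valid_all hz hb hchk hc hl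
  have hσz : ∀ w, σ (zpv z 0 w) = 1 := fun w => zpv_mem z σ.ker hzker 0 w
  have hσrep : ∀ c, σ (C.rep X c) = ev x (C.tw c) := by
    intro c
    show σ (ev X (C.tw c)) = _
    rw [ev_map, hσX']
  have hform : ∀ g ∈ Subgroup.closure (Set.range X),
      ∃ c < C.N, ∃ w : List ℤ, g = zpv z 0 w * C.rep X c :=
    fun g hg => mem_closure_form C k X z hz hnl hXk htw0 hN hchk hv hg
  have hmap : (Subgroup.closure (Set.range X)).map σ = Subgroup.closure (Set.range x) := by
    rw [MonoidHom.map_closure, ← Set.range_comp]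
    congr 2
  have hP : ∀ p ∈ Subgroup.closure (Set.range x), ∃ c < C.N, p = ev x (C.tw c) := by
    intro p hp
    rw [← hmap] at hp
    obtain ⟨g, hg, rfl⟩ := hp
    obtain ⟨c, hc, w, rfl⟩ := hform g hg
    exact ⟨c, hc, by rw [map_mul, hσz, one_mul, hσrep]⟩
  refine ⟨?_, hv, ?_⟩
  · let f : Fin C.N → Subgroup.closure (Set.range x) :=
      fun c => ⟨ev x (C.tw c.val), ev_mem_closure x _⟩
    have hbij : Function.Bijective f := by
      constructor
      · intro c c' e
        exact Fin.ext (hG4 c.val c.isLt c'.val c'.isLt (congrArg Subtype.val e))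
      · rintro ⟨p, hp⟩
        obtain ⟨c, hc, rfl⟩ := hP p hp
        exact ⟨⟨c, hc⟩, rfl⟩
    rw [← Nat.card_eq_of_bijective f hbij, Nat.card_fin]
  · intro g hg
    have h1 := Cfsg.Agent.Helper96.StemBound.ker_pow_index_mem σ hσ
      (Subgroup.closure (Set.range x)) hg
    have h2 : ⁅(Subgroup.closure (Set.range x)).comap σ,
        (Subgroup.closure (Set.range x)).comap σ⁆ ≤ Subgroup.closure (Set.range X) := by
      rw [Subgroup.commutator_le]
      have hdec : ∀ a ∈ (Subgroup.closure (Set.range x)).comap σ,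
          ∃ l ∈ Subgroup.closure (Set.range X), ∃ c ∈ Subgroup.center Γ, a = l * c := by
        intro a ha
        rw [Subgroup.mem_comap, ← hmap] at ha
        obtain ⟨l, hl, e⟩ := ha
        refine ⟨l, hl, l⁻¹ * a, ?_, by group⟩
        apply hker
        rw [MonoidHom.mem_ker, map_mul, map_inv, e, inv_mul_cancel]
      intro a ha b hb'
      obtain ⟨l₁, hl₁, c₁, hc₁, rfl⟩ := hdec a ha
      obtain ⟨l₂, hl₂, c₂, hc₂, rfl⟩ := hdec b hb'
      rw [commutatorElement_mul_central _ _ _ _ hc₁ hc₂]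
      rw [commutatorElement_def]
      exact Subgroup.mul_mem _ (Subgroup.mul_mem _ (Subgroup.mul_mem _ hl₁ hl₂)
        (Subgroup.inv_mem _ hl₁)) (Subgroup.inv_mem _ hl₂)
    obtain ⟨c, hc, w, e⟩ := hform _ (h2 h1)
    have h3 : σ (g ^ (Subgroup.closure (Set.range x)).index) = 1 := by
      rw [map_pow, MonoidHom.mem_ker.mp hg, one_pow]
    rw [e, map_mul, hσz, one_mul, hσrep] at h3
    have h0 : ev x (C.tw 0) = 1 := by rw [htw0]; rfl
    have hc0 : c = 0 := hG4 c hc 0 hN (by rw [h3, h0])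
    refine ⟨w, ?_⟩
    rw [e, hc0]
    show zpv z 0 w * ev X (C.tw 0) = _
    rw [htw0, ev_nil, mul_one]

/-- if three times a unit vector and the differences of the other unit vectors with its multiples
are combinations of relations, the central elements generate a group of order at most three -/
theorem three_case {z : ℕ → Γ} (hz : ∀ j, z j ∈ Subgroup.center Γ) (m j0 : ℕ)
    (hzm : ∀ j, m ≤ j → z j = 1)
    (ρs : List (List ℤ)) (hρ : ∀ ρ ∈ ρs, zpv z 0 ρ = 1) (eps u0 : List ℤ) (U : List (List ℤ))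
    (h0 : lincomb u0 ρs = vsmul 3 (padUnit m j0))
    (hU : ∀ j < m, lincomb (U.getD j []) ρs =
      vadd (padUnit m j) (vsmul (-(eps.getD j 0)) (padUnit m j0))) :
    z j0 ^ 3 = 1 ∧ ∀ w : List ℤ, zpv z 0 w = 1 ∨ zpv z 0 w = z j0 ∨ zpv z 0 w = z j0 ^ 2 := by
  have hcu : z j0 ^ 3 = 1 := by
    have := zpv_lincomb hz ρs hρ u0
    rw [h0, zpv_vsmul hz, zpv_padUnit] at this
    exact_mod_cast this
  refine ⟨hcu, ?_⟩
  have h1 : ∀ j, z j ∈ Subgroup.zpowers (z j0) := by
    intro j
    rcases Nat.lt_or_ge j m with hj | hj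
    · have := zpv_lincomb hz ρs hρ (U.getD j [])
      rw [hU j hj, zpv_vadd hz, zpv_vsmul hz, zpv_padUnit, zpv_padUnit] at this
      rw [Subgroup.mem_zpowers_iff]
      refine ⟨eps.getD j 0, ?_⟩
      rw [zpow_neg] at this
      exact (mul_inv_eq_one.mp this).symm
    · rw [hzm j hj]
      exact Subgroup.one_mem _
  intro w
  have h2 := zpv_mem z (Subgroup.zpowers (z j0)) h1 0 w
  rw [Subgroup.mem_zpowers_iff] at h2
  obtain ⟨n, hn⟩ := h2
  rw [← hn]
  have h3 : z j0 ^ (3 : ℤ) = 1 := by exact_mod_cast hcu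
  have hn3 : n = 3 * (n / 3) + n % 3 := (Int.mul_ediv_add_emod n 3).symm
  have hr0 : 0 ≤ n % 3 := Int.emod_nonneg _ (by norm_num)
  have hr3 : n % 3 < 3 := Int.emod_lt_of_pos _ (by norm_num)
  rw [hn3, zpow_add, zpow_mul, h3, one_zpow, one_mul]
  obtain ⟨r, hr⟩ := Int.eq_ofNat_of_zero_le hr0
  rw [hr] at hr3 ⊢
  have hr3' : r < 3 := by exact_mod_cast hr3
  interval_cases r
  · left; simp
  · right; left; simp
  · right; right; norm_cast

end Cfsg.Agent.Helper98.J3M
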