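import Cfsg.Agent.Helper98.J3Mult.Glue2
import Cfsg.Agent.Helper98.J3Mult.StemCore
import Cfsg.Agent.Helper98.J3Mult.P3Chk0
import Cfsg.Agent.Helper98.J3Mult.P3Chk1
import Cfsg.Agent.Helper98.J3Mult.P3Chk2
import Cfsg.Agent.Helper98.J3Mult.P3Chk3
import Cfsg.Agent.Helper98.J3Mult.P3Chk4
import Cfsg.Agent.Helper98.J3Mult.P3Chk5
import Cfsg.Agent.Helper98.J3Mult.P3Chk6
import Cfsg.Agent.Helper98.J3Mult.P3Chk7
import Cfsg.Agent.Helper98.J3Mult.P3Node0
import Cfsg.Agent.Helper98.J3Mult.P3Node1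
import Cfsg.Agent.Helper98.J3Mult.P3Node2
import Cfsg.Agent.Helper98.J3Mult.P3Node3
import Cfsg.Agent.Helper98.J3Mult.P3Node4
import Cfsg.Agent.Helper98.J3Mult.P3Node5
import Cfsg.Agent.Helper98.J3Mult.P3Node6
import Cfsg.Agent.Helper98.J3Mult.P3Node7
import Cfsg.Agent.Helper98.J3Gen

/-!
# Kernel checks for the normaliser of a Sylow `3`-subgroup of `J₃`
-/

set_option autoImplicit false
set_option maxRecDepth 10000000
set_option maxHeartbeats 0

namespace Cfsg.Agent.Helper98.J3M

open Cfsg.Agent.Helper27 Cfsg.Agent.Helper98.J3 Cfsg.Agent.Helper7.ModTC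

theorem p3_chk : ∀ c l, c < p3C.N → l < p3C.nl → p3C.chkEdge c l = true := by
  intro c l hc hl
  have hc' : c < 1944 := hc
  rcases Nat.lt_or_ge c 243 with h0 | h0
  · exact p3C.chkRange_spec p3_chk0 (by omega) (by omega) hl
  rcases Nat.lt_or_ge c 486 with h1 | h1
  · exact p3C.chkRange_spec p3_chk1 (by omega) (by omega) hl
  rcases Nat.lt_or_ge c 729 with h2 | h2
  · exact p3C.chkRange_spec p3_chk2 (by omega) (by omega) hl
  rcases Nat.lt_or_ge c 972 with h3 | h3
  · exact p3C.chkRange_spec p3_chk3 (by omega) (by omega) hl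
  rcases Nat.lt_or_ge c 1215 with h4 | h4
  · exact p3C.chkRange_spec p3_chk4 (by omega) (by omega) hl
  rcases Nat.lt_or_ge c 1458 with h5 | h5
  · exact p3C.chkRange_spec p3_chk5 (by omega) (by omega) hl
  rcases Nat.lt_or_ge c 1701 with h6 | h6
  · exact p3C.chkRange_spec p3_chk6 (by omega) (by omega) hl
  exact p3C.chkRange_spec p3_chk7 (by omega) (by omega) hl

theorem p3_node : ∀ c < p3C.N, nodeChk p3Li p3C p3T c = true := by
  intro c hc
  have hc' : c < 1944 := hc
  rcases Nat.lt_or_ge c 243 with h0 | h0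
  · exact nodeRange_spec p3_node0 (by omega) (by omega)
  rcases Nat.lt_or_ge c 486 with h1 | h1
  · exact nodeRange_spec p3_node1 (by omega) (by omega)
  rcases Nat.lt_or_ge c 729 with h2 | h2
  · exact nodeRange_spec p3_node2 (by omega) (by omega)
  rcases Nat.lt_or_ge c 972 with h3 | h3
  · exact nodeRange_spec p3_node3 (by omega) (by omega)
  rcases Nat.lt_or_ge c 1215 with h4 | h4
  · exact nodeRange_spec p3_node4 (by omega) (by omega)
  rcases Nat.lt_or_ge c 1458 with h5 | h5
  · exact nodeRange_spec p3_node5 (by omega) (by omega)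
  rcases Nat.lt_or_ge c 1701 with h6 | h6
  · exact nodeRange_spec p3_node6 (by omega) (by omega)
  exact nodeRange_spec p3_node7 (by omega) (by omega)

theorem p3_inv : invChk p3Li = true := by decide +kernel

theorem p3_sorted : sortedOK p3T 1944 11 p3Sig = true := by decide +kernel

/-- the base words have scalar matrices -/
theorem p3_words : ∀ b < 6, scalB (wordCode (letC p3Li (p3Words.getD b []))) = true := by
  decide +kernel

/-- the shape of the base words -/
theorem p3_shape : p3Words.getD 0 [] = [0, 0, 0, 0, 0, 0, 0, 0] ∧ p3Words.getD 1 [] = 3 :: p3Zw ∧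
    Cert.isZero (esum p3Zw) = true ∧ p3C.tw 0 = [] ∧
    (∀ b < 6, p3Vals.getD b [] = if b < 2 then [0, 0, 0, 0] else padUnit 4 (b - 2)) ∧
    p3Li.getD 0 idCode = genCodes.getD 30 0 ∧ p3Li.getD 2 idCode = genCodes.getD 19 0 ∧
    p3Li.length = 4 := by
  decide +kernel

theorem p3_lin0 : lincomb p3U0 (relList p3C 100000 p3Pairs) = vsmul 3 (padUnit 4 2) := by
  decide +kernel

theorem p3_lin : ∀ j < 4, lincomb (p3U.getD j []) (relList p3C 100000 p3Pairs) =
    vadd (padUnit 4 j) (vsmul (-(p3Eps.getD j 0)) (padUnit 4 2)) := by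
  decide +kernel

end Cfsg.Agent.Helper98.J3M
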