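import Cfsg.Agent.Helper98.J3Mult.P3Chk
import Cfsg.Agent.Helper98.J3Mult.Final

/-!
# The `3`-part of the kernel of a finite stem extension of `J₃`

The normaliser `P` of a Sylow `3`-subgroup is the image of the monomial group, generated by
`x 0 = B_(1,1)` of order `8` and `x 1 = D_(0,1)`, which lies in the derived subgroup of `P`.  The
kernel is killed by `81`, so `x 0` has a lift `X 0` with `X 0 ^ 8 = 1`; `x 1` has the lift given by
a word with zero exponent sums.  The labelled coset table of `P` then shows that the `25840`-th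
powers of the elements of the kernel lie in a group of order three.
-/

set_option autoImplicit false
set_option linter.unusedSectionVars false

namespace Cfsg.Agent.Helper98.J3M

open Cfsg.Agent.Helper27 Cfsg.Agent.Helper98.J3 Cfsg.Agent.Helper7.ModTC

universe u

section

variable {K : Type*} [Group K] [Finite K] {φ : K →* Matrix (Fin 9) (Fin 9) GF4}
  (hφ : Function.Injective φ) {a b : K} (ha : φ a = toMat aCode) (hb : φ b = toMat bCode)
  (hgen : Subgroup.closure {a, b} = (⊤ : Subgroup K))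

include ha hb in
theorem p3_rep : ∀ i, RepK φ (p3Li.getD (2 * i) idCode) := by
  obtain ⟨f0, f1, fix⟩ := slpB_facts
  have key := rep_of_slp (φ := φ) (S := ⊤) slpB_ok (by
    intro k hk
    interval_cases k
    · rw [f0]; exact ⟨a, Subgroup.mem_top _, ha⟩
    · rw [f1]; exact ⟨b, Subgroup.mem_top _, hb⟩)
  have gen : ∀ k < 43, RepK φ (genCodes.getD k 0) := by
    intro k hk
    obtain ⟨h1, h2⟩ := fix k hk
    obtain ⟨g, -, e⟩ := key _ h1
    rw [h2] at e
    exact ⟨g, e⟩
  obtain ⟨-, -, -, -, -, fl0, fl2, flen⟩ := p3_shape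
  intro i
  rcases Nat.lt_or_ge i 2 with hi | hi
  · interval_cases i
    · rw [fl0]; exact gen 30 (by norm_num)
    · rw [fl2]; exact gen 19 (by norm_num)
  · rw [List.getD_eq_default _ _ (by rw [flen]; omega)]
    exact repK_id

include hφ ha hb hgen

/-- the `25840`-th powers of the elements of the kernel of a finite stem extension of `J₃` lie in
a set of three elements -/
theorem three_part {Γ : Type u} [Group Γ] [Finite Γ] (σ : Γ →* K ⧸ Subgroup.center K)
    (hσ : Cfsg.IsStemExtension σ) :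
    ∃ ζ : Γ, ∀ g ∈ σ.ker, g ^ 25840 = 1 ∨ g ^ 25840 = ζ ∨ g ^ 25840 = ζ ^ 2 := by
  classical
  obtain ⟨fw0, fw1, fzero, ftw0, fvals, fl0, fl2, flen⟩ := p3_shape
  have hrep := p3_rep (φ := φ) ha hb
  have hone : ∀ b' < 6, ev (xOf φ p3Li) (p3Words.getD b' []) = 1 := fun b' hb' =>
    ev_eq_one_of_scalB hφ ha hb hgen hrep p3_inv _ (p3_words b' hb')
  have h81 := pow_81 hφ ha hb hgen σ hσ
  have hcen : ∀ g, g ∈ σ.ker → g ∈ Subgroup.center Γ := fun g hg => hσ.2.1 hg
  have hxk : ∀ i, 2 ≤ i → xOf φ p3Li i = 1 := by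
    intro i hi
    unfold xOf
    rw [List.getD_eq_default _ _ (by rw [flen]; omega)]
    exact elG_id hφ
  -- the lift of `x 0`
  obtain ⟨xt0, hxt0⟩ := hσ.1 (xOf φ p3Li 0)
  obtain ⟨xt1, hxt1⟩ := hσ.1 (xOf φ p3Li 1)
  have hx08 : xOf φ p3Li 0 ^ 8 = 1 := by
    have := hone 0 (by norm_num)
    rw [fw0] at this
    simpa [ev, evL, pow_succ, mul_assoc] using this
  obtain ⟨ξ, hξdef⟩ : ∃ ξ : Γ, ξ = xt0 ^ 8 := ⟨_, rfl⟩
  have hξ : ξ ∈ σ.ker := by
    rw [MonoidHom.mem_ker, hξdef, map_pow, hxt0, hx08]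
  obtain ⟨X0, hX0def⟩ : ∃ X0 : Γ, X0 = xt0 * (ξ ^ 71)⁻¹ := ⟨_, rfl⟩
  have hσX0 : σ X0 = xOf φ p3Li 0 := by
    rw [hX0def, map_mul, map_inv, map_pow, MonoidHom.mem_ker.1 hξ, one_pow, inv_one, mul_one,
      hxt0]
  have hX08 : X0 ^ 8 = 1 := by
    have hc : Commute xt0 (ξ ^ 71)⁻¹ :=
      Subgroup.mem_center_iff.1 (Subgroup.inv_mem _ (Subgroup.pow_mem _ (hcen ξ hξ) 71)) xt0
    have e1 : ξ ^ 568 = ξ := by
      have : ξ ^ 568 = (ξ ^ 81) ^ 7 * ξ := by rw [← pow_mul, ← pow_succ]
      rw [this, h81 ξ hξ, one_pow, one_mul]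
    rw [hX0def, hc.mul_pow, ← hξdef, inv_pow, ← pow_mul, e1, mul_inv_cancel]
  -- the lift of `x 1`
  obtain ⟨Y, hYdef⟩ : ∃ Y : ℕ → Γ, Y = fun i => if i = 0 then X0 else if i = 1 then xt1 else 1 :=
    ⟨_, rfl⟩
  have hσY : ∀ i, σ (Y i) = xOf φ p3Li i := by
    intro i
    rw [hYdef]
    by_cases h0 : i = 0
    · subst h0; simp only [if_true]; exact hσX0
    by_cases h1 : i = 1
    · subst h1; simp only [if_neg h0, if_true]; exact hxt1
    · simp only [if_neg h0, if_neg h1, map_one]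
      exact (hxk i (by omega)).symm
  have hzw : ev (xOf φ p3Li) p3Zw = xOf φ p3Li 1 := by
    have := hone 1 (by norm_num)
    rw [fw1, ev_cons] at this
    have h2 : evL (xOf φ p3Li) 3 = (xOf φ p3Li 1)⁻¹ := by
      unfold evL
      rw [if_neg (by norm_num)]
    rw [h2] at this
    exact inv_mul_eq_one.1 this |>.symm
  obtain ⟨X1, hX1def⟩ : ∃ X1 : Γ, X1 = ev Y p3Zw := ⟨_, rfl⟩
  have hσX1 : σ X1 = xOf φ p3Li 1 := by
    rw [hX1def, ev_map, funext hσY, hzw]
  obtain ⟨X, hXdef⟩ : ∃ X : ℕ → Γ, X = fun i => if i = 0 then X0 else if i = 1 then X1 else 1 :=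
    ⟨_, rfl⟩
  have hX_0 : X 0 = X0 := by rw [hXdef]; simp
  have hX_1 : X 1 = X1 := by rw [hXdef]; simp
  have hXk : ∀ i, 2 ≤ i → X i = 1 := by
    intro i hi
    rw [hXdef]
    simp only [if_neg (show i ≠ 0 by omega), if_neg (show i ≠ 1 by omega)]
  have hσX : ∀ i, σ (X i) = xOf φ p3Li i := by
    intro i
    by_cases h0 : i = 0
    · subst h0; rw [hX_0]; exact hσX0
    by_cases h1 : i = 1
    · subst h1; rw [hX_1]; exact hσX1
    · rw [hXk i (by omega), map_one]
      exact (hxk i (by omega)).symm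
  have hσX' : (fun i => σ (X i)) = xOf φ p3Li := funext hσX
  -- `X` and `Y` differ by central elements
  have hkk : ∀ i, (Y i)⁻¹ * X i ∈ Subgroup.center Γ := by
    intro i
    apply hcen
    rw [MonoidHom.mem_ker, map_mul, map_inv, hσY, hσX, inv_mul_cancel]
  have hXY : X = fun i => Y i * ((Y i)⁻¹ * X i) := by
    funext i
    group
  have hevX : ev X p3Zw = X1 := by
    rw [hXY, ev_shift Y _ hkk, Cert.isZero_spec fzero, mul_one, hX1def]
  -- the central elements
  obtain ⟨z, hzdef⟩ : ∃ z : ℕ → Γ,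
      z = fun j => if j < 4 then ev X (p3Words.getD (j + 2) []) else 1 := ⟨_, rfl⟩
  have hzker : ∀ j, z j ∈ σ.ker := by
    intro j
    rw [hzdef]
    by_cases hj : j < 4
    · simp only [if_pos hj]
      rw [MonoidHom.mem_ker, ev_map, hσX']
      exact hone (j + 2) (by omega)
    · simp only [if_neg hj]
      exact Subgroup.one_mem _
  have hz : ∀ j, z j ∈ Subgroup.center Γ := fun j => hcen _ (hzker j)
  have hzm : ∀ j, 4 ≤ j → z j = 1 := by
    intro j hj
    rw [hzdef]
    simp only [if_neg (show ¬ j < 4 by omega)]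
  have hbase : p3C.BaseOK X z := by
    intro b'
    show ev X (p3Words.getD b' []) = zpv z 0 (p3Vals.getD b' [])
    rcases Nat.lt_or_ge b' 6 with h | h
    · rw [fvals b' h]
      rcases Nat.lt_or_ge b' 2 with h2 | h2
      · rw [if_pos h2]
        have hr : zpv z 0 [0, 0, 0, 0] = 1 := by simp [zpv]
        rw [hr]
        interval_cases b'
        · rw [fw0]
          have : ev X [0, 0, 0, 0, 0, 0, 0, 0] = X 0 ^ 8 := by
            simp [ev, evL, pow_succ, mul_assoc]
          rw [this, hX_0, hX08]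
        · rw [fw1, ev_cons, hevX]
          have : evL X 3 = (X 1)⁻¹ := by
            unfold evL
            rw [if_neg (by norm_num)]
          rw [this, hX_1, inv_mul_cancel]
      · rw [if_neg (by omega), zpv_padUnit, hzdef]
        simp only [if_pos (show b' - 2 < 4 by omega)]
        rw [show b' - 2 + 2 = b' by omega]
    · have hl : p3Words.length = 6 := by decide
      have hl' : p3Vals.length = 6 := by decide
      rw [List.getD_eq_default _ _ (by omega), List.getD_eq_default _ _ (by omega)]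
      rfl
  -- the table
  obtain ⟨hcard, hvalid, hpow⟩ := stem_core σ hσ p3C 2 (xOf φ p3Li) X z rfl hσX hXk hzker hbase
    (nodes_inj hφ ha hb hgen hrep p3_inv p3_node p3_sorted) ftw0 (by decide) p3_chk
  have hidx : (Subgroup.closure (Set.range (xOf φ p3Li))).index = 25840 := by
    have h1 : Nat.card (Subgroup.closure (Set.range (xOf φ p3Li))) = 1944 := hcard
    have h2 := Subgroup.card_mul_index (Subgroup.closure (Set.range (xOf φ p3Li)))
    rw [h1, (main hφ ha hb hgen).2.2.2] at h2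
    omega
  have hrel : ∀ bd b' s ρ, p3C.relVec bd b' s = some ρ → zpv z 0 ρ = 1 :=
    fun bd b' s ρ h => p3C.relVec_spec hz hbase hvalid h
  have hρ := relList_spec (C := p3C) (bd := 100000) (pairs := p3Pairs) hrel
  obtain ⟨-, hall⟩ := three_case hz 4 2 hzm _ hρ p3Eps p3U0 p3U p3_lin0 p3_lin
  refine ⟨z 2, ?_⟩
  intro g hg
  obtain ⟨w, hw⟩ := hpow g hg
  rw [hidx] at hw
  rw [hw]
  exact hall w

end

end Cfsg.Agent.Helper98.J3M
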