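import Cfsg.Agent.Helper98.J3Mult.C2Chk
import Cfsg.Agent.Helper98.J3Mult.C2Node0
import Cfsg.Agent.Helper98.J3Mult.C2Node1
import Cfsg.Agent.Helper98.J3Mult.C2Node2
import Cfsg.Agent.Helper98.J3Mult.C2Node3
import Cfsg.Agent.Helper98.J3Mult.C2Node4
import Cfsg.Agent.Helper98.J3Mult.C2Node5
import Cfsg.Agent.Helper98.J3Mult.C2Node6
import Cfsg.Agent.Helper98.J3Mult.C2Node7
import Cfsg.Agent.Helper7.J2Mult.p2ChkAll
import Cfsg.Agent.Helper98.J3StrGen

/-!
# The kernel of a finite stem extension of `J₃` has no `2`-part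

The centraliser `C` of an involution of `J₃` is isomorphic to that of the Hall–Janko group, and
the labelled coset table `p2C` shows that the `26163`-th powers of the elements of the kernel lie
in `{1, ζ}` with `ζ = X₀²` for a lift `X₀` of a non-central involution of `C`, while the central
involution of `C` has a lift of order two.  As all involutions of `J₃` are conjugate, `ζ` is the
inverse of a square of an element of the kernel, hence trivial.
-/

set_option autoImplicit false
set_option linter.unusedSectionVars false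

namespace Cfsg.Agent.Helper98.J3M

open Cfsg.Agent.Helper27 Cfsg.Agent.Helper98.J3 Cfsg.Agent.Helper7.ModTC
open Cfsg.Agent.Helper7.J2Mult

universe u

theorem c2_node : ∀ c < p2C.N, nodeChk c2Li p2C c2T c = true := by
  intro c hc
  have hc' : c < 1920 := hc
  rcases Nat.lt_or_ge c 240 with h0 | h0
  · exact nodeRange_spec c2_node0 (by omega) (by omega)
  rcases Nat.lt_or_ge c 480 with h1 | h1
  · exact nodeRange_spec c2_node1 (by omega) (by omega)
  rcases Nat.lt_or_ge c 720 with h2 | h2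
  · exact nodeRange_spec c2_node2 (by omega) (by omega)
  rcases Nat.lt_or_ge c 960 with h3 | h3
  · exact nodeRange_spec c2_node3 (by omega) (by omega)
  rcases Nat.lt_or_ge c 1200 with h4 | h4
  · exact nodeRange_spec c2_node4 (by omega) (by omega)
  rcases Nat.lt_or_ge c 1440 with h5 | h5
  · exact nodeRange_spec c2_node5 (by omega) (by omega)
  rcases Nat.lt_or_ge c 1680 with h6 | h6
  · exact nodeRange_spec c2_node6 (by omega) (by omega)
  exact nodeRange_spec c2_node7 (by omega) (by omega)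

section

variable {K : Type*} [Group K] [Finite K] {φ : K →* Matrix (Fin 9) (Fin 9) GF4}
  (hφ : Function.Injective φ) {a b : K} (ha : φ a = toMat aCode) (hb : φ b = toMat bCode)
  (hgen : Subgroup.closure {a, b} = (⊤ : Subgroup K))

include ha hb in
theorem c2_rep : ∀ i < 3, RepK φ (c2Li.getD (2 * i) idCode) := by
  obtain ⟨f0, f1, flen, fix⟩ := c2_slp_facts
  have key := rep_of_slp (φ := φ) (S := ⊤) c2_slp (by
    intro k hk
    interval_cases k
    · rw [f0]; exact ⟨a, Subgroup.mem_top _, ha⟩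
    · rw [f1]; exact ⟨b, Subgroup.mem_top _, hb⟩)
  intro i hi
  obtain ⟨h1, h2⟩ := fix i hi
  obtain ⟨g, -, e⟩ := key _ (by rw [flen]; exact h1)
  rw [h2] at e
  exact ⟨g, e⟩

include hφ ha hb hgen

/-- the kernel of a finite stem extension of `J₃` has no `2`-part -/
theorem two_part {Γ : Type u} [Group Γ] [Finite Γ] (σ : Γ →* K ⧸ Subgroup.center K)
    (hσ : Cfsg.IsStemExtension σ) : ∀ g ∈ σ.ker, g ^ 26163 = 1 := by
  obtain ⟨hcard, X, z, hσX, hz, hzker, hzm, hrelz, hbase, hvalid, hpow⟩ :=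
    glue_main_x hφ ha hb hgen σ hσ p2C 3 6 p2Rels p2Zws c2Li c2T 11 c2Sig rfl rfl rfl rfl
      (c2_rep ha hb) c2_inv c2_rel c2_node c2_sorted (by decide +kernel) (by decide) p2_chk
  obtain ⟨fz, flt, fne, frel0⟩ := c2_facts
  -- the index
  have hidx : (Subgroup.closure (Set.range (xOf φ c2Li))).index = 26163 := by
    have h1 : Nat.card (Subgroup.closure (Set.range (xOf φ c2Li))) = 1920 := hcard
    have h2 := Subgroup.card_mul_index (Subgroup.closure (Set.range (xOf φ c2Li)))
    rw [h1, (main hφ ha hb hgen).2.2.2] at h2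
    omega
  -- the relations between the central elements
  have hrel : ∀ bd b s ρ, p2C.relVec bd b s = some ρ → zpv z 0 ρ = 1 :=
    fun bd b s ρ h => p2C.relVec_spec hz hbase hvalid h
  have hρ := relList_spec (C := p2C) (bd := 11521) (pairs := c2Pairs) hrel
  obtain ⟨h2, hall⟩ := two_case hz 6 0 hzm _ hρ c2Eps c2U0 c2U c2_lin0 c2_lin
  -- the square of the lift of `x 0`
  have hX0 : X 0 * X 0 = z 0 := by
    have := hrelz 0 (by norm_num)
    rw [frel0] at this
    simpa [ev, evL] using this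
  -- the lift of the central involution
  have hW : ev X c2Wz * ev X c2Wz = 1 := by
    have h3 := p2C.walk_sound hz 1000000 (fun c l hc hl _ => hvalid c l hc hl) _ _ _ _ c2_walk
    have h4 : p2C.rep X 0 = 1 := by
      show ev X (p2C.tw 0) = 1
      have : p2C.tw 0 = [] := by decide +kernel
      rw [this]; rfl
    rw [h4, one_mul, mul_one, ← c2_linz, zpv_lincomb hz _ hρ, ev_append] at h3
    exact h3
  -- the images in `J₃`
  have hrep' : ∀ i, RepK φ (c2Li.getD (2 * i) idCode) := by
    intro i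
    rcases Nat.lt_or_ge i 3 with hi | hi
    · exact c2_rep ha hb i hi
    · rw [List.getD_eq_default _ _ (by simp [c2Li]; omega)]
      exact repK_id
  have hσW : σ (ev X c2Wz) = QuotientGroup.mk a := by
    rw [ev_map, funext hσX, (ev_xOf hφ hrep' c2_inv c2Wz).2, fz]
    unfold elG
    rw [elK_eq hφ ha]
  have hx0sq : xOf φ c2Li 0 * xOf φ c2Li 0 = 1 := by
    rw [← hσX 0, ← map_mul, hX0]
    exact MonoidHom.mem_ker.1 (hzker 0)
  have hx0ne : xOf φ c2Li 0 ≠ 1 := by
    intro h
    have h5 : elG φ (c2Li.getD (2 * 0) idCode) = elG φ idCode := by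
      rw [elG_id hφ]; exact h
    have := normC_eq_of_elG_eq hφ ha hb hgen (hrep' 0) repK_id flt scal_lt.1 h5
    rw [this, Nat.beq_refl] at fne
    exact Bool.noConfusion fne
  have ho1 : orderOf (QuotientGroup.mk a : K ⧸ Subgroup.center K) = 2 :=
    orderOf_eq_of_pow Nat.prime_two (pi_a_sq hφ ha hb hgen) (pi_a_ne hφ ha hb hgen)
  have ho2 : orderOf (xOf φ c2Li 0) = 2 :=
    orderOf_eq_of_pow Nat.prime_two (by rw [pow_two]; exact hx0sq) hx0ne
  obtain ⟨g0, hg0⟩ := isConj_iff.1 ((centralizer_structure_K hφ ha hb hgen).1 _ _ ho1 ho2)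
  obtain ⟨gt, rfl⟩ := hσ.1 g0
  -- the element of the kernel
  obtain ⟨κ, hκdef⟩ : ∃ κ : Γ, κ = gt * ev X c2Wz * gt⁻¹ * (X 0)⁻¹ := ⟨_, rfl⟩
  have hκker : κ ∈ σ.ker := by
    rw [MonoidHom.mem_ker, hκdef, map_mul, map_mul, map_mul, map_inv, map_inv, hσW, hg0, hσX,
      mul_inv_cancel]
  have hκc : ∀ y : Γ, y * κ = κ * y := fun y => Subgroup.mem_center_iff.1 (hσ.2.1 hκker) y
  have hκX : gt * ev X c2Wz * gt⁻¹ = κ * X 0 := by rw [hκdef]; group
  have hsq : κ * κ * z 0 = 1 := by
    have h6 : (gt * ev X c2Wz * gt⁻¹) * (gt * ev X c2Wz * gt⁻¹) = 1 := by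
      calc (gt * ev X c2Wz * gt⁻¹) * (gt * ev X c2Wz * gt⁻¹)
          = gt * (ev X c2Wz * ev X c2Wz) * gt⁻¹ := by group
        _ = 1 := by rw [hW]; group
    rw [hκX] at h6
    calc κ * κ * z 0 = κ * κ * (X 0 * X 0) := by rw [hX0]
      _ = κ * (κ * X 0) * X 0 := by group
      _ = κ * (X 0 * κ) * X 0 := by rw [hκc (X 0)]
      _ = (κ * X 0) * (κ * X 0) := by group
      _ = 1 := h6
  -- `ζ` is trivial
  have hζ : z 0 = 1 := by
    obtain ⟨v, hv⟩ := hpow κ hκker
    rw [hidx] at hv
    have h7 : (κ ^ 26163) ^ 2 = 1 := by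
      rcases hall v with h | h
      · rw [hv, h, one_pow]
      · rw [hv, h, h2]
    have h8 : (κ * κ) ^ 26163 = 1 := by
      rw [← pow_two, ← pow_mul, mul_comm, pow_mul]
      exact h7
    have h9 : κ * κ = (z 0)⁻¹ := eq_inv_of_mul_eq_one_left hsq
    rw [h9, inv_pow, inv_eq_one] at h8
    have h10 : z 0 ^ 26163 = z 0 := by
      have : 26163 = 2 * 13081 + 1 := by norm_num
      rw [this, pow_succ, pow_mul, h2, one_pow, one_mul]
    rw [← h10]
    exact h8
  intro g hg
  obtain ⟨v, hv⟩ := hpow g hg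
  rw [hidx] at hv
  rcases hall v with h | h
  · rw [hv, h]
  · rw [hv, h, hζ]

end

end Cfsg.Agent.Helper98.J3M
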